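import Groth.Agent.DepthSum6.Main
import Groth.Agent.ZClosLib.SkCodepth
import Groth.Agent.LC.DepthLoc
import Groth.Agent.S5765
import Groth.Agent.RegLoc6.Open

/-!
# Openness of the codepth loci from a Cohen–Macaulay hypothesis on the integral quotients
-/

set_option autoImplicit false
set_option linter.style.haveILetI false
set_option backward.isDefEq.respectTransparency false
set_option backward.isDefEq.respectTransparency.types false

universe u

open Groth.Agent.ZClosLib.SkCodepth

namespace Groth.Agent.CodOpen6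

variable {A : Type u} [CommRing A]

/-- `A_q / p A_q` is the localisation of `A / p` at `q / p`. -/
theorem exists_quotient_equiv (p q : Ideal A) [q.IsPrime] (hpq : p ≤ q) :
    ∃ (Q : Ideal (A ⧸ p)) (_ : Q.IsPrime), Q = q.map (Ideal.Quotient.mk p) ∧
      Nonempty (Localization.AtPrime Q ≃+* Localization.AtPrime q ⧸ p.map (algebraMap A (Localization.AtPrime q))) := by
  have hker : RingHom.ker (Ideal.Quotient.mk p) ≤ q := by rw [Ideal.mk_ker]; exact hpq
  haveI := Ideal.map_isPrime_of_surjective (f := Ideal.Quotient.mk p) Ideal.Quotient.mk_surjective hker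
  refine ⟨_, inferInstance, rfl, ?_⟩
  have hM : Algebra.algebraMapSubmonoid (A ⧸ p) q.primeCompl = (q.map (Ideal.Quotient.mk p)).primeCompl := by
    ext x
    obtain ⟨x, rfl⟩ := Ideal.Quotient.mk_surjective x
    have hmem : Ideal.Quotient.mk p x ∈ q.map (Ideal.Quotient.mk p) ↔ x ∈ q := by
      rw [← Ideal.mem_comap, Ideal.comap_map_of_surjective _ Ideal.Quotient.mk_surjective,
        ← RingHom.ker_eq_comap_bot, Ideal.mk_ker, sup_eq_left.2 hpq]
    constructor
    · rintro ⟨y, hy, e⟩ hx
      have h1 : y ∈ (q.map (Ideal.Quotient.mk p)).comap (Ideal.Quotient.mk p) := by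
        rw [Ideal.mem_comap, ← Ideal.Quotient.algebraMap_eq, e]; exact hx
      rw [Ideal.comap_map_of_surjective _ Ideal.Quotient.mk_surjective, ← RingHom.ker_eq_comap_bot, Ideal.mk_ker,
        sup_eq_left.2 hpq] at h1
      exact hy h1
    · exact fun hx => ⟨x, fun h => hx (hmem.2 h), rfl⟩
  haveI : IsLocalization.AtPrime (Localization.AtPrime q ⧸ p.map (algebraMap A (Localization.AtPrime q)))
      (q.map (Ideal.Quotient.mk p)) := by
    show IsLocalization _ _
    rw [← hM]
    infer_instance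
  exact ⟨(IsLocalization.algEquiv (q.map (Ideal.Quotient.mk p)).primeCompl (Localization.AtPrime (q.map (Ideal.Quotient.mk p)))
    (Localization.AtPrime q ⧸ p.map (algebraMap A (Localization.AtPrime q)))).toRingEquiv⟩

variable [IsNoetherianRing A] (M : Type u) [AddCommGroup M] [Module A M] [Module.Finite A M]

/-- `depth M_q ≤ depth M_p + dim (A_q / p A_q)`. -/
theorem depth_le_add_dim (p q : Ideal A) [p.IsPrime] [q.IsPrime] (hpq : p ≤ q) :
    ((LocCoh.depth (Localization.AtPrime q) (LocalizedModule q.primeCompl M) : ℕ∞) : WithBot ℕ∞) ≤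
      ((LocCoh.depth (Localization.AtPrime p) (LocalizedModule p.primeCompl M) : ℕ∞) : WithBot ℕ∞) +
        ringKrullDim (Localization.AtPrime q ⧸ p.map (algebraMap A (Localization.AtPrime q))) := by
  obtain ⟨Q, _, hQ, ⟨e⟩⟩ := exists_quotient_equiv p q hpq
  rw [← ringKrullDim_eq_of_ringEquiv e, IsLocalization.AtPrime.ringKrullDim_eq_height Q, hQ, ← WithBot.coe_add]
  exact WithBot.coe_le_coe.2 (LC.depth_localized_le_add_height M p q hpq)

omit [IsNoetherianRing A] in
/-- `dim M_p + dim (A_q / p A_q) ≤ dim M_q`. -/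
theorem dim_add_le (p q : Ideal A) [p.IsPrime] [q.IsPrime] (hpq : p ≤ q)
    (hp : (⟨p, inferInstance⟩ : PrimeSpectrum A) ∈ Module.support A M) :
    Module.supportDim (Localization.AtPrime p) (LocalizedModule p.primeCompl M) +
        ringKrullDim (Localization.AtPrime q ⧸ p.map (algebraMap A (Localization.AtPrime q))) ≤
      Module.supportDim (Localization.AtPrime q) (LocalizedModule q.primeCompl M) := by
  let R := Localization.AtPrime q
  haveI : Module.Finite R (LocalizedModule q.primeCompl M) :=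
    Module.Finite.of_isLocalizedModule q.primeCompl (LocalizedModule.mkLinearMap q.primeCompl M)
  let P := p.map (algebraMap A R)
  have hdisj : Disjoint (q.primeCompl : Set A) (p : Set A) := Set.disjoint_left.2 fun a ha hap => ha (hpq hap)
  haveI hPp : P.IsPrime := IsLocalization.isPrime_of_isPrime_disjoint q.primeCompl R p inferInstance hdisj
  have hcomap : P.comap (algebraMap A R) = p :=
    IsLocalization.under_map_of_isPrime_disjoint q.primeCompl R inferInstance hdisj
  have hloc : ∀ (p' : Ideal A) [p'.IsPrime], p' = p →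
      Module.supportDim (Localization.AtPrime p') (LocalizedModule p'.primeCompl M) =
        Module.supportDim (Localization.AtPrime p) (LocalizedModule p.primeCompl M) := fun p' _ h => by subst h; rfl
  have hPs : (⟨P, hPp⟩ : PrimeSpectrum R) ∈ Module.support R (LocalizedModule q.primeCompl M) := by
    rw [Module.mem_support_iff, ← Module.supportDim_ne_bot_iff_nontrivial (R := Localization.AtPrime P)]
    rw [Alg6.supportDim_locLoc, hloc _ hcomap, Module.supportDim_ne_bot_iff_nontrivial]
    exact hp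
  have h1 := S5765.result R (LocalizedModule q.primeCompl M) P
  rw [Alg6.supportDim_locLoc, hloc _ hcomap] at h1
  refine le_trans (le_of_eq ?_) h1
  congr 1
  rw [Module.supportDim, Module.support_quotient, ringKrullDim_quotient,
    Set.inter_eq_right.2 (show PrimeSpectrum.zeroLocus (P : Set R) ⊆ Module.support R (LocalizedModule q.primeCompl M) from
      fun Q hQ => Module.mem_support_mono (show (⟨P, hPp⟩ : PrimeSpectrum R) ≤ Q from hQ) hPs)]

/-- Codepth does not grow under generalisation. -/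
theorem codLE_of_le {n : ℕ} (x y : PrimeSpectrum A) (hxy : x.asIdeal ≤ y.asIdeal) (h : CodLE M n y) : CodLE M n x := by
  by_cases hx : x ∈ Module.support A M
  · have hy : y ∈ Module.support A M := Module.mem_support_mono hxy hx
    obtain ⟨d, δ, hd, hδ⟩ := exists_nat M x hx
    obtain ⟨D, Δ, hD, hΔ⟩ := exists_nat M y hy
    rw [codLE_iff M hd hδ]
    rw [codLE_iff M hD hΔ] at h
    haveI : IsNoetherianRing (Localization.AtPrime y.asIdeal) :=
      IsLocalization.isNoetherianRing y.asIdeal.primeCompl _ ‹_›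
    let P := x.asIdeal.map (algebraMap A (Localization.AtPrime y.asIdeal))
    haveI : Nontrivial (Localization.AtPrime y.asIdeal ⧸ P) := by
      obtain ⟨Q, _, -, ⟨e⟩⟩ := exists_quotient_equiv x.asIdeal y.asIdeal hxy
      exact e.symm.toEquiv.nontrivial
    obtain ⟨c, hc⟩ := NFDim6.exists_dim_eq_nat (Localization.AtPrime y.asIdeal) (Localization.AtPrime y.asIdeal ⧸ P)
    rw [Module.supportDim_quotient_eq_ringKrullDim] at hc
    have h1 := dim_add_le M x.asIdeal y.asIdeal hxy hx
    have h2 := depth_le_add_dim M x.asIdeal y.asIdeal hxy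
    rw [hd, hD, hc] at h1
    rw [hδ, hΔ, hc] at h2
    norm_cast at h1 h2
    omega
  · exact codLE_of_notMem M hx

/-- The codepth loci are open when every integral quotient is Cohen–Macaulay on a nonempty open set. -/
theorem isOpen_codLE (hCMU : ∀ (p : Ideal A) [p.IsPrime], ∃ U : Set (PrimeSpectrum (A ⧸ p)), IsOpen U ∧ U.Nonempty ∧
      ∀ q ∈ U, LocCoh.IsCohenMacaulayLocalRing (Localization.AtPrime q.asIdeal)) (n : ℕ) :
    IsOpen {p : PrimeSpectrum A | CodLE M n p} := by
  refine RegLoc6.isOpen_of_forall_generic _ (fun x y hxy hy => codLE_of_le M x y hxy hy) fun x hx => ?_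
  by_cases hxs : x ∈ Module.support A M
  swap
  · rw [Module.support_eq_zeroLocus, PrimeSpectrum.mem_zeroLocus, Set.not_subset] at hxs
    obtain ⟨a, ha, hax⟩ := hxs
    refine ⟨a, hax, fun y _ hy => codLE_of_notMem M ?_⟩
    rw [Module.support_eq_zeroLocus]
    exact fun h => hy (h ha)
  obtain ⟨f₁, hf₁, h₁⟩ := DepthSum6.exists_depth_eq M x.asIdeal hxs
  obtain ⟨f₂, hf₂, h₂⟩ := DepthSum6.exists_nf A x.asIdeal M
  obtain ⟨W, hWo, ⟨w₀, hw₀⟩, hW⟩ := hCMU x.asIdeal
  obtain ⟨_, ⟨g', rfl⟩, hgw, hgW⟩ :=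
    PrimeSpectrum.isTopologicalBasis_basic_opens.exists_subset_of_mem_open hw₀ hWo
  obtain ⟨g, rfl⟩ := Ideal.Quotient.mk_surjective g'
  have hg : g ∉ x.asIdeal := fun h => hgw (by
    rw [Ideal.Quotient.eq_zero_iff_mem.mpr h]; exact w₀.asIdeal.zero_mem)
  refine ⟨f₁ * f₂ * g, fun h => (x.isPrime.mem_or_mem h).elim (fun h => (x.isPrime.mem_or_mem h).elim hf₁ hf₂) hg,
    fun y hxy hy => ?_⟩
  have hy₁ : f₁ ∉ y.asIdeal := fun h => hy (Ideal.mul_mem_right _ _ (Ideal.mul_mem_right _ _ h))
  have hy₂ : f₂ ∉ y.asIdeal := fun h => hy (Ideal.mul_mem_right _ _ (Ideal.mul_mem_left _ _ h))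
  have hy₃ : g ∉ y.asIdeal := fun h => hy (Ideal.mul_mem_left _ _ h)
  let R := Localization.AtPrime y.asIdeal
  haveI : IsNoetherianRing R := IsLocalization.isNoetherianRing y.asIdeal.primeCompl _ ‹_›
  let P := x.asIdeal.map (algebraMap A R)
  obtain ⟨Q, hQp, hQ, ⟨e⟩⟩ := exists_quotient_equiv x.asIdeal y.asIdeal hxy
  have hQW : (⟨Q, hQp⟩ : PrimeSpectrum (A ⧸ x.asIdeal)) ∈ W := hgW fun h => hy₃ (by
    have h' : g ∈ (y.asIdeal.map (Ideal.Quotient.mk x.asIdeal)).comap (Ideal.Quotient.mk x.asIdeal) := hQ ▸ h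
    rw [Ideal.comap_map_of_surjective _ Ideal.Quotient.mk_surjective, ← RingHom.ker_eq_comap_bot, Ideal.mk_ker,
      sup_eq_left.2 hxy] at h'
    exact h')
  haveI : LocCoh.IsCohenMacaulayLocalRing (Localization.AtPrime Q) := hW ⟨Q, hQp⟩ hQW
  haveI : IsLocalRing (R ⧸ P) := e.isLocalRing
  have hdepth : LocCoh.depth R (R ⧸ P) = LocCoh.depth (R ⧸ P) (R ⧸ P) :=
    Alg6.depth_eq_of_semilinear (Ideal.Quotient.mk P) Ideal.Quotient.mk_surjective (AddEquiv.refl _) fun r z => by
      obtain ⟨w, rfl⟩ := Ideal.Quotient.mk_surjective z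
      exact map_mul (Ideal.Quotient.mk P) r w
  have hCM : ringKrullDim (R ⧸ P) = ((LocCoh.depth R (R ⧸ P) : ℕ∞) : WithBot ℕ∞) := by
    rw [hdepth, ← ringKrullDim_eq_of_ringEquiv e, ← Module.supportDim_self_eq_ringKrullDim,
      LocCoh.IsCohenMacaulayLocalRing.supportDim_eq_depth,
      Alg6.depth_eq_of_semilinear e.toRingHom e.surjective e.toAddEquiv fun r z => e.map_mul r z]
  have hys : y ∈ Module.support A M := Module.mem_support_mono hxy hxs
  obtain ⟨d, δ, hd, hδ⟩ := exists_nat M x hxs
  obtain ⟨D, Δ, hD, hΔ⟩ := exists_nat M y hys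
  have hP : P.IsPrime := IsLocalization.isPrime_of_isPrime_disjoint y.asIdeal.primeCompl R x.asIdeal inferInstance
    (Set.disjoint_left.2 fun a ha hap => ha (hxy hap))
  haveI : Nontrivial (LocalizedModule y.asIdeal.primeCompl M) := hys
  haveI : Module.Finite R (LocalizedModule y.asIdeal.primeCompl M) :=
    Module.Finite.of_isLocalizedModule y.asIdeal.primeCompl (LocalizedModule.mkLinearMap y.asIdeal.primeCompl M)
  have h3 := NFDim6.supportDim_eq (h₂ y.asIdeal.primeCompl (IsLocalization.map_units R (⟨f₂, hy₂⟩ : y.asIdeal.primeCompl)))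
    P ⟨⟨hP, le_rfl⟩, fun J hJ _ => hJ.2⟩
  have hloc : ∀ (p' : Ideal A) [p'.IsPrime], p' = x.asIdeal →
      Module.supportDim (Localization.AtPrime p') (LocalizedModule p'.primeCompl M) =
        Module.supportDim (Localization.AtPrime x.asIdeal) (LocalizedModule x.asIdeal.primeCompl M) := fun p' _ h => by
    subst h; rfl
  rw [Alg6.supportDim_locLoc, hloc _ (IsLocalization.under_map_of_isPrime_disjoint y.asIdeal.primeCompl R inferInstance
    (Set.disjoint_left.2 fun a ha hap => ha (hxy hap))), hd, hD, hCM] at h3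
  have h4 := h₁ y.asIdeal hxy hy₁
  rw [hΔ, hδ] at h4
  obtain ⟨c, hc⟩ := ENat.ne_top_iff_exists.1 (show LocCoh.depth R (R ⧸ P) ≠ ⊤ from fun h => by
    rw [show LocCoh.depth (Localization.AtPrime y.asIdeal)
      (Localization.AtPrime y.asIdeal ⧸ x.asIdeal.map (algebraMap A (Localization.AtPrime y.asIdeal))) = ⊤ from h,
      add_top] at h4
    exact ENat.natCast_ne_top _ h4)
  rw [← hc] at h3
  rw [show LocCoh.depth (Localization.AtPrime y.asIdeal)
      (Localization.AtPrime y.asIdeal ⧸ x.asIdeal.map (algebraMap A (Localization.AtPrime y.asIdeal))) = (c : ℕ∞) from hc.symm] at h4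
  have hx' := (codLE_iff M hd hδ).1 hx
  show CodLE M n y
  rw [codLE_iff M hD hΔ]
  norm_cast at h3 h4
  omega

end Groth.Agent.CodOpen6
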